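/-
Derivations of coset equations: assembled.
-/
import Cfsg.Agent.Lib.Spor.TC.Steps
import Cfsg.Agent.Lib.Spor.Fi24Pres.CG.Part0
import Cfsg.Agent.Lib.Spor.Fi24Pres.CG.Part1
import Cfsg.Agent.Lib.Spor.Fi24Pres.CG.Part2
import Cfsg.Agent.Lib.Spor.Fi24Pres.CG.Part3
import Cfsg.Agent.Lib.Spor.Fi24Pres.CG.Part4

namespace CfsgLib.Spor.Fi24.CG

open CfsgLib.Spor.TC

theorem steps_ok : cert.StepsOK 0 29750 :=
  (((steps0.append _ (steps1841.append _ steps3732)).append _ ((steps5670.append _ steps7660).append _ (steps9661.append _ steps11655))).append _ (((steps13670.append _ steps15692).append _ (steps17724.append _ steps19765)).append _ ((steps21810.append _ steps23843).append _ (steps25858.append _ steps27853))))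

theorem rels_eq : cert.rels = relWords relsG := by decide +kernel

end CfsgLib.Spor.Fi24.CG
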