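/-
A closed path among the derived equations, found by a computer search.
-/
import Cfsg.Agent.Lib.Spor.Fi24Pres.CG.Data
import Cfsg.Agent.Lib.Spor.TC.CheckWide

namespace CfsgLib.Spor.Fi24.CG

open CfsgLib.Spor.TC

set_option maxRecDepth 100000

def loopWord : List ℕ := [1, 2, 3, 4, 5, 10, 11, 6, 5, 10, 7, 8, 6, 7, 4, 5, 6, 3, 4, 5, 10, 11, 7, 5, 6, 3, 4, 5, 10, 9, 8, 7, 6, 5, 4, 3, 2, 3, 4, 5, 6, 7, 8, 9, 10, 5, 4, 3, 6, 5, 7, 11, 10, 5, 4, 3, 6, 5, 4, 7, 6, 8, 7, 10, 5, 6, 11, 10, 5, 4, 3, 2, 1]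

def loopPath : List ℕ := [20, 60, 98, 156, 214, 300, 382, 489, 625, 812, 1031, 1305, 1673, 2213, 3031, 3964, 5126, 6437, 8051, 9918, 12116, 14756, 17909, 21367, 25727, 29231, 33015, 37059, 41378, 45135, 49263, 52749, 55187, 58156, 58640, 58980, 59499, 58981, 58641, 58157, 55186, 52748, 49262, 45134, 41379, 37058, 33014, 29230, 25726, 21366, 17908, 14757, 12117, 9919, 8050, 6436, 5127, 3965, 3030, 2212, 1672, 1304, 1030, 813, 624, 488, 383, 301, 215, 157, 99, 61, 21]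

theorem loop_ok : cert.pathOK 29750 loopPath loopWord = true := by decide +kernel

end CfsgLib.Spor.Fi24.CG
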